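import Groth.Agent.L28.Ext.Etale
import Groth.Agent.L08.IdentityComponent
import Groth.Agent.L08.AbelianGrp
import Mathlib.AlgebraicGeometry.Morphisms.QuasiFinite
import Mathlib.GroupTheory.OrderOfElement

/-!
# Extensions of a connected group over a field by a torsion-free constant group split uniquely
-/

universe u

set_option linter.style.haveILetI false
set_option linter.unusedSectionVars false

open CategoryTheory CategoryTheory.Limits MonoidalCategory CartesianMonoidalCategory MonObj AlgebraicGeometry Opposite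

set_option backward.isDefEq.respectTransparency.types false

namespace Groth.L28.Ext

open Groth.L25

variable {k : Type u} [Field k]

theorem subsingleton_spec_field (x y : ↥(Spec (CommRingCat.of k))) : x = y :=
  @Subsingleton.elim (PrimeSpectrum k) inferInstance x y

/-- An open monomorphic homomorphism to an irreducible group scheme over a field is surjective. -/
theorem surjective_of_isOpenImmersion {N P : Over (Spec (CommRingCat.of k))} [GrpObj N] [GrpObj P] [GeometricallyIrreducible P.hom]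
    (w : N ⟶ P) [IsMonHom w] [IsOpenImmersion w.left] : Surjective w.left := by
  refine ⟨fun p => ?_⟩
  obtain ⟨φ, hφ⟩ := Spec.map_surjective (P.left.fromSpecResidueField p ≫ P.hom)
  let T : Over (Spec (CommRingCat.of k)) := Over.mk (P.left.fromSpecResidueField p ≫ P.hom)
  let x : T ⟶ P := Over.homMk (P.left.fromSpecResidueField p)
  haveI : Nonempty ↥T.left := inferInstanceAs (Nonempty (PrimeSpectrum (P.left.residueField p)))
  haveI : IrreducibleSpace ↥(T ⊗ P).left :=
    GeometricallyIrreducible.geometrically_irreducibleSpace (f := P.hom) (P.left.fromSpecResidueField p ≫ P.hom)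
      _ _ (IsPullback.of_hasPullback T.hom P.hom).flip
  let y₁ : T ⊗ P ⟶ P := snd T P
  let y₂ : T ⊗ P ⟶ P := (snd T P)⁻¹ * (fst T P ≫ x)
  have hU : IsOpen (Set.range w.left) := w.left.isOpenEmbedding.isOpen_range
  obtain ⟨t⟩ : Nonempty ↥T.left := inferInstance
  have hone : ((1 : T ⟶ P)).left t ∈ Set.range w.left := by
    refine ⟨((1 : T ⟶ N)).left t, ?_⟩
    exact congrArg (fun q : T ⟶ P => q.left t) (one_comp (f := w) (X := T))
  have hn₁ : (y₁.left ⁻¹' Set.range w.left).Nonempty := by
    refine ⟨(lift (𝟙 T) (1 : T ⟶ P)).left t, ?_⟩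
    rw [Set.mem_preimage, show y₁.left ((lift (𝟙 T) (1 : T ⟶ P)).left t) = (1 : T ⟶ P).left t from
      congrArg (fun q : T ⟶ P => q.left t) (lift_snd (𝟙 T) (1 : T ⟶ P))]
    exact hone
  have hn₂ : (y₂.left ⁻¹' Set.range w.left).Nonempty := by
    refine ⟨(lift (𝟙 T) x).left t, ?_⟩
    have e : lift (𝟙 T) x ≫ y₂ = 1 := by
      simp only [y₂, comp_mul, GrpObj.comp_inv, ← Category.assoc, lift_fst, lift_snd, Category.id_comp,
        inv_mul_cancel]
    rw [Set.mem_preimage, show y₂.left ((lift (𝟙 T) x).left t) = (1 : T ⟶ P).left t from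
      congrArg (fun q : T ⟶ P => q.left t) e]
    exact hone
  obtain ⟨z, -, hz₁, hz₂⟩ := (PreirreducibleSpace.isPreirreducible_univ (X := ↥(T ⊗ P).left))
    _ _ (hU.preimage y₁.left.continuous) (hU.preimage y₂.left.continuous)
    (by simpa using hn₁) (by simpa using hn₂)
  let T' : Over (Spec (CommRingCat.of k)) := Over.mk ((T ⊗ P).left.fromSpecResidueField z ≫ (T ⊗ P).hom)
  let e : T' ⟶ T ⊗ P := Over.homMk ((T ⊗ P).left.fromSpecResidueField z)
  haveI : Nonempty ↥T'.left := inferInstanceAs (Nonempty (PrimeSpectrum ((T ⊗ P).left.residueField z)))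
  have hfac : ∀ y : T ⊗ P ⟶ P, y.left z ∈ Set.range w.left → ∃ n : T' ⟶ N, n ≫ w = e ≫ y := fun y hy => by
    refine ⟨Over.homMk (IsOpenImmersion.lift w.left (e ≫ y).left (by
      rintro _ ⟨t', rfl⟩
      rw [Over.comp_left, Scheme.Hom.comp_apply, show e.left t' = z from Scheme.fromSpecResidueField_apply z t']
      exact hy)) ?_, Over.OverMorphism.ext (IsOpenImmersion.lift_fac _ _ _)⟩
    rw [← Over.w w, ← Category.assoc, IsOpenImmersion.lift_fac, Over.w (e ≫ y)]
  obtain ⟨a, ha⟩ := hfac y₁ hz₁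
  obtain ⟨b, hb⟩ := hfac y₂ hz₂
  have hab : (a * b) ≫ w = e ≫ fst T P ≫ x := by
    rw [mul_comp, ha, hb, ← comp_mul, mul_inv_cancel_left]
  obtain ⟨t'⟩ : Nonempty ↥T'.left := inferInstance
  refine ⟨(a * b).left t', ?_⟩
  exact (congrArg (fun q : T' ⟶ P => q.left t') hab).trans (Scheme.fromSpecResidueField_apply p _)

variable {Z : Type u} [Group Z] {P E G : Over (Spec (CommRingCat.of k))} [GrpObj P] [GrpObj E] [GrpObj G]

/-- The `k`-point of `E` given by an element of the constant subgroup. -/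
noncomputable def cpt (eG : G ≅ TwC.const (Spec (CommRingCat.of k)) Z) (u : G ⟶ E) (z : Z) : 𝟙_ (Over (Spec (CommRingCat.of k))) ⟶ E :=
  TwC.pt (Spec (CommRingCat.of k)) Z z ≫ eG.inv ≫ u

theorem cpt_mul {eG : G ≅ TwC.const (Spec (CommRingCat.of k)) Z} (hG : TwC.IsConstGrp Z G eG) (u : G ⟶ E) [IsMonHom u] (z z' : Z) :
    cpt eG u z * cpt eG u z' = cpt eG u (z * z') := by
  simp only [cpt, ← Category.assoc, ← mul_comp, hG z z']

theorem cpt_one {eG : G ≅ TwC.const (Spec (CommRingCat.of k)) Z} (hG : TwC.IsConstGrp Z G eG) (u : G ⟶ E) [IsMonHom u] :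
    cpt eG u (1 : Z) = 1 := by
  have h := cpt_mul hG u 1 1
  rwa [_root_.one_mul, mul_eq_right] at h

theorem pt_left (z : Z) : (TwC.pt (Spec (CommRingCat.of k)) Z z).left = Sigma.ι (fun _ : Z => (Spec (CommRingCat.of k))) z := rfl

theorem exists_pt_eq (y : ↥(TwC.const (Spec (CommRingCat.of k)) Z).left) :
    ∃ z, (TwC.pt (Spec (CommRingCat.of k)) Z z).left (IsLocalRing.closedPoint k) = y := by
  obtain ⟨b, hb⟩ := (sigmaOpenCover (fun _ : Z => (Spec (CommRingCat.of k)))).covers y
  exact ⟨_, (congrArg _ (subsingleton_spec_field _ b)).trans hb⟩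

theorem pt_injective {z z' : Z}
    (h : (TwC.pt (Spec (CommRingCat.of k)) Z z).left (IsLocalRing.closedPoint k) = (TwC.pt (Spec (CommRingCat.of k)) Z z').left (IsLocalRing.closedPoint k)) :
    z = z' :=
  congrArg Sigma.fst ((sigmaι_eq_iff (fun _ : Z => (Spec (CommRingCat.of k))) z z' _ _).mp h)

/-- A morphism to the constant scheme meeting only one copy is constant. -/
theorem eq_pt_of_forall {T : Over (Spec (CommRingCat.of k))} (g : T ⟶ TwC.const (Spec (CommRingCat.of k)) Z) (z : Z)
    (h : ∀ t, g.left t = (TwC.pt (Spec (CommRingCat.of k)) Z z).left (IsLocalRing.closedPoint k)) : g = toUnit T ≫ TwC.pt (Spec (CommRingCat.of k)) Z z := by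
  haveI : IsOpenImmersion (TwC.pt (Spec (CommRingCat.of k)) Z z).left := inferInstanceAs (IsOpenImmersion (Sigma.ι (fun _ : Z => (Spec (CommRingCat.of k))) z))
  let l := IsOpenImmersion.lift (TwC.pt (Spec (CommRingCat.of k)) Z z).left g.left (by rintro _ ⟨t, rfl⟩; exact ⟨_, (h t).symm⟩)
  have hl : l ≫ (TwC.pt (Spec (CommRingCat.of k)) Z z).left = g.left := IsOpenImmersion.lift_fac _ _ _
  have hl' : l = T.hom := by
    rw [← Over.w g, ← hl, Category.assoc, Over.w (TwC.pt (Spec (CommRingCat.of k)) Z z)]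
    exact (Category.comp_id _).symm
  refine Over.OverMorphism.ext ?_
  rw [← hl, hl']
  rfl

theorem cpt_point_injective {eG : G ≅ TwC.const (Spec (CommRingCat.of k)) Z} {u : G ⟶ E} [Mono u] {z z' : Z}
    (h : (cpt eG u z).left (IsLocalRing.closedPoint k) = (cpt eG u z').left (IsLocalRing.closedPoint k)) :
    z = z' :=
  pt_injective ((eG.inv ≫ u).left.injective h)

/-- An extension of a connected group scheme locally of finite type over a field by a torsion-free constant group
is rigid and split. -/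
theorem rigid_and_split (hZ : ∀ z : Z, IsOfFinOrder z → z = 1)
    [LocallyOfFiniteType P.hom] [ConnectedSpace ↥P.left]
    (eG : G ≅ TwC.const (Spec (CommRingCat.of k)) Z) (hG : TwC.IsConstGrp Z G eG)
    (u : G ⟶ E) (v : E ⟶ P) (hex : NonAbH1.IsExactSeq Scheme.fppfPrecoverage u v) :
    (∀ φ : E ≅ E, IsMonHom φ.hom → u ≫ φ.hom = u → φ.hom ≫ v = v → φ.hom = 𝟙 E) ∧
      ∃ s : P ⟶ E, IsMonHom s ∧ s ≫ v = 𝟙 P := by
  haveI := hex.1
  haveI := hex.2.1
  haveI : Mono u := ⟨fun _ _ h => comp_u_injective hex h⟩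
  have hGet : Etale G.hom := by
    rw [← Over.w eG.hom]
    have := etale_const_hom (S := (Spec (CommRingCat.of k))) Z
    infer_instance
  obtain ⟨hve, hvs⟩ := etale_surjective_of_exact hex hGet
  haveI : LocallyOfFiniteType E.hom := by rw [← Over.w v]; infer_instance
  obtain ⟨N, iN, j, hj, hjc, hjo, hjr⟩ := Groth.L08.IdComp.exists_identityComponent E
  haveI : IsLocallyNoetherian P.left := LocallyOfFiniteType.isLocallyNoetherian P.hom
  haveI : IrreducibleSpace ↥P.left := Component.irreducibleSpace P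
  haveI : GeometricallyIrreducible P.hom := Component.geometricallyIrreducible P
  haveI : IsSeparated P.hom := Groth.L08.AbelianGrp.isSeparated P
  let w : N ⟶ P := j ≫ v
  haveI : Etale w.left := inferInstanceAs (Etale (j.left ≫ v.left))
  haveI : CompactSpace ↥N.left := by
    refine ⟨j.left.isClosedEmbedding.isEmbedding.isCompact_iff.2 ?_⟩
    rw [Set.image_univ, hjr]
    exact Component.isCompact_connectedComponent E _
  haveI hNc : PreconnectedSpace ↥N.left := by
    refine ⟨j.left.isClosedEmbedding.isEmbedding.isInducing.isPreconnected_image.1 ?_⟩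
    rw [Set.image_univ, hjr]
    exact isPreconnected_connectedComponent
  haveI : QuasiSeparatedSpace ↥P.left := quasiSeparatedSpace_of_quasiSeparated P.hom
  haveI : QuasiCompact w.left := inferInstance
  -- the elements of `Z` lying in the identity component
  let H : Set Z := {z | ∃ x : 𝟙_ (Over (Spec (CommRingCat.of k))) ⟶ N, x ≫ j = cpt eG u z}
  have hHmul : ∀ z z', z ∈ H → z' ∈ H → z * z' ∈ H := fun z z' ⟨x, hx⟩ ⟨x', hx'⟩ =>
    ⟨x * x', by rw [mul_comp, hx, hx', cpt_mul hG]⟩
  have hH1 : (1 : Z) ∈ H := ⟨1, by rw [one_comp, cpt_one hG]⟩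
  have hHfin : H.Finite := by
    have hx : ∀ z : H, ∃ x : 𝟙_ (Over (Spec (CommRingCat.of k))) ⟶ N, x ≫ j = cpt eG u z.1 := fun z => z.2
    choose x hx using hx
    have hxw : ∀ z : H, x z ≫ w = 1 := fun z => by
      rw [show x z ≫ w = (x z ≫ j) ≫ v from (Category.assoc _ _ _).symm, hx, cpt, Category.assoc, Category.assoc,
        hex.2.2.1, comp_one, comp_one]
    have hinj : Function.Injective fun z : H => (x z).left (IsLocalRing.closedPoint k) := fun z z' e => by
      refine Subtype.ext (cpt_point_injective (eG := eG) (u := u) ?_)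
      rw [← hx, ← hx]
      exact congrArg j.left e
    have hfin : Finite (w.left ⁻¹' {((1 : 𝟙_ (Over (Spec (CommRingCat.of k))) ⟶ P)).left (IsLocalRing.closedPoint k)}) :=
      (w.left.finite_preimage_singleton _).to_subtype
    exact Set.finite_coe_iff.1 (Finite.of_injective
      (fun z : H => (⟨(x z).left (IsLocalRing.closedPoint k),
        congrArg (fun q : 𝟙_ (Over (Spec (CommRingCat.of k))) ⟶ P => q.left (IsLocalRing.closedPoint k)) (hxw z)⟩ :
          ↥(w.left ⁻¹' {((1 : 𝟙_ (Over (Spec (CommRingCat.of k))) ⟶ P)).left (IsLocalRing.closedPoint k)})))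
      fun z z' e => hinj (congrArg Subtype.val e))
  have hH : ∀ z ∈ H, z = 1 := fun z hz => hZ z (by
    have hpow : ∀ n : ℕ, z ^ n ∈ H := fun n => by
      induction n with
      | zero => rw [pow_zero]; exact hH1
      | succ n ih => rw [pow_succ]; exact hHmul _ _ ih hz
    by_contra hnot
    have hinj : Function.Injective (fun n : ℕ => z ^ n) := injective_pow_iff_not_isOfFinOrder.2 hnot
    exact (Set.infinite_range_of_injective hinj).mono (Set.range_subset_iff.2 hpow) hHfin)
  haveI : Mono w := ⟨fun {T} a b hab => by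
    obtain ⟨g, hg⟩ := exists_of_comp_eq hex (a := a ≫ j) (b := b ≫ j)
      (by simpa only [Category.assoc] using hab)
    have hgu : (a⁻¹ * b) ≫ j = g ≫ u := by
      rw [mul_comp, GrpObj.inv_comp, ← hg, inv_mul_cancel_left]
    have hg1 : ∀ t, (g ≫ eG.hom).left t = (TwC.pt (Spec (CommRingCat.of k)) Z 1).left (IsLocalRing.closedPoint k) := fun t => by
      obtain ⟨z, hz⟩ := exists_pt_eq ((g ≫ eG.hom).left t)
      have hcpt : (cpt eG u z).left (IsLocalRing.closedPoint k) ∈ Set.range j.left := by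
        refine ⟨(a⁻¹ * b).left t, ?_⟩
        have e1 := congrArg (fun q : T ⟶ E => q.left t) hgu
        have e2 : g ≫ u = (g ≫ eG.hom) ≫ eG.inv ≫ u := by simp
        refine e1.trans ?_
        rw [e2]
        change (eG.inv ≫ u).left ((g ≫ eG.hom).left t) = _
        rw [← hz]
        rfl
      have hzH : z ∈ H := by
        refine ⟨Over.homMk (IsOpenImmersion.lift j.left (cpt eG u z).left (by
          rintro _ ⟨q, rfl⟩
          rw [show q = IsLocalRing.closedPoint k from subsingleton_spec_field _ _]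
          exact hcpt)) ?_, Over.OverMorphism.ext (IsOpenImmersion.lift_fac _ _ _)⟩
        rw [← Over.w j, ← Category.assoc, IsOpenImmersion.lift_fac, Over.w (cpt eG u z)]
      rw [← hz, hH z hzH]
    have hgu1 : g ≫ u = 1 := by
      rw [show g = (g ≫ eG.hom) ≫ eG.inv by simp, eq_pt_of_forall (g ≫ eG.hom) 1 hg1, Category.assoc,
        Category.assoc, show TwC.pt (Spec (CommRingCat.of k)) Z 1 ≫ eG.inv ≫ u = cpt eG u (1 : Z) from rfl, cpt_one hG, comp_one]
    rw [hgu1, _root_.mul_one] at hg
    haveI : Mono j := ⟨fun _ _ h => Over.OverMorphism.ext ((cancel_mono j.left).1 (congrArg CommaMorphism.left h))⟩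
    exact (cancel_mono j).1 hg⟩
  haveI : IsMonHom w := inferInstanceAs (IsMonHom (j ≫ v))
  haveI : IsOpenImmersion w.left := IsOpenImmersion.of_flat_of_mono w.left
  haveI : Surjective w.left := surjective_of_isOpenImmersion w
  haveI : IsIso w.left := IsOpenImmersion.isIso w.left
  haveI : IsIso ((Over.forget (Spec (CommRingCat.of k))).map w) := ‹IsIso w.left›
  haveI : IsIso w := isIso_of_reflects_iso w (Over.forget (Spec (CommRingCat.of k)))
  haveI : IsMonHom (inv w) :=
    ⟨by simp [IsMonHom.one_hom (f := w)], by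
      rw [IsIso.comp_inv_eq, Category.assoc, IsMonHom.mul_hom, tensorHom_comp_tensorHom_assoc, IsIso.inv_hom_id,
        id_tensorHom_id, Category.id_comp]⟩
  refine ⟨fun φ hφ hφu hφv => ?_, inv w ≫ j, inferInstance, ?_⟩
  · haveI := hφ
    have hmem : Set.range (j ≫ φ.hom).left ⊆ Set.range j.left := by
      rintro _ ⟨x, rfl⟩
      rw [hjr]
      refine Groth.L08.IdComp.mem_component_of_preconnected (j ≫ φ.hom).left
        (c := ((1 : 𝟙_ (Over (Spec (CommRingCat.of k))) ⟶ N)).left (IsLocalRing.closedPoint k)) ?_ x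
      exact (congrArg (fun q : 𝟙_ (Over (Spec (CommRingCat.of k))) ⟶ E => q.left (IsLocalRing.closedPoint k))
        (one_comp (f := j ≫ φ.hom) (X := 𝟙_ (Over (Spec (CommRingCat.of k)))))).trans
          (congrArg (fun q : 𝟙_ (Over (Spec (CommRingCat.of k))) ⟶ E => q.left (IsLocalRing.closedPoint k)) (one_eq_one E).symm)
    let φ' : N ⟶ N := Over.homMk (IsOpenImmersion.lift j.left (j ≫ φ.hom).left hmem) (by
      exact (congrArg (IsOpenImmersion.lift j.left (j ≫ φ.hom).left hmem ≫ ·) (Over.w j).symm).trans ((Category.assoc _ _ _).symm.trans ((congrArg (· ≫ E.hom) (IsOpenImmersion.lift_fac _ _ _)).trans (Over.w (j ≫ φ.hom)))))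
    have hφ' : φ' ≫ j = j ≫ φ.hom := Over.OverMorphism.ext (IsOpenImmersion.lift_fac _ _ _)
    have hfix : j ≫ φ.hom = j := by
      have : φ' ≫ w = 𝟙 N ≫ w := by
        rw [show φ' ≫ w = (φ' ≫ j) ≫ v from (Category.assoc _ _ _).symm, hφ', Category.assoc, hφv,
          Category.id_comp]
      rw [← hφ', (cancel_mono w).1 this, Category.id_comp]
    obtain ⟨g, hg⟩ := exists_of_comp_eq hex (a := v ≫ inv w ≫ j) (b := 𝟙 E) (by simp [w])
    calc φ.hom = 𝟙 E ≫ φ.hom := (Category.id_comp _).symm
      _ = 𝟙 E := by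
        rw [← hg, mul_comp, Category.assoc, Category.assoc, hfix, Category.assoc, hφu]
  · simp [w]

end Groth.L28.Ext
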