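import Groth.Prelude.Def_NonAbH2

/-!
# Extensions of group schemes for the fppf topology: kernel and descent
-/

universe u

open CategoryTheory CategoryTheory.Limits MonoidalCategory CartesianMonoidalCategory MonObj AlgebraicGeometry Opposite

namespace Groth.L28.Ext

variable {S : Scheme.{u}} {X Y Z X₁ Y₁ X₂ Y₂ : Over S}

/-- `q` has sections fppf-locally -/
def Cov (q : X ⟶ Y) : Prop :=
  Sieve.generate (Presieve.singleton q.left) ∈ Scheme.fppfTopology Y.left

lemma cov_of_isLocallyTrivialFor (v : X ⟶ Y)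
    (h : NonAbH1.IsLocallyTrivialFor Scheme.fppfPrecoverage (Over.mk v.left : Over Y.left)) : Cov v := by
  obtain ⟨R, hR, hsec⟩ := h
  refine Scheme.fppfTopology.superset_covering ?_ (Precoverage.generate_mem_toGrothendieck hR)
  rw [Sieve.generate_le_iff]
  intro T f hf
  obtain ⟨s, hs⟩ := hsec f hf
  exact ⟨X.left, s, v.left, Presieve.singleton_self _, hs⟩

lemma cov_id (Y : Over S) : Cov (𝟙 Y) :=
  Scheme.fppfTopology.superset_covering (S := ⊤)
    (fun T f _ => ⟨Y.left, f, 𝟙 Y.left, Presieve.singleton_self _, Category.comp_id _⟩) (Scheme.fppfTopology.top_mem _)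

lemma cov_tensor {q₁ : X₁ ⟶ Y₁} {q₂ : X₂ ⟶ Y₂} (h₁ : Cov q₁) (h₂ : Cov q₂) : Cov (q₁ ⊗ₘ q₂) := by
  refine Scheme.fppfTopology.superset_covering ?_
    (Scheme.fppfTopology.intersection_covering (Scheme.fppfTopology.pullback_stable (fst Y₁ Y₂).left h₁)
      (Scheme.fppfTopology.pullback_stable (snd Y₁ Y₂).left h₂))
  rintro T f ⟨⟨_, s₁, _, ⟨⟩, e₁⟩, ⟨_, s₂, _, ⟨⟩, e₂⟩⟩
  let T' : Over S := Over.mk (f ≫ (Y₁ ⊗ Y₂).hom)
  let φ : T' ⟶ Y₁ ⊗ Y₂ := Over.homMk f
  let a₁ : T' ⟶ X₁ := Over.homMk s₁ (by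
    rw [← Over.w q₁, ← Category.assoc, e₁, Category.assoc, Over.w (fst Y₁ Y₂)]; rfl)
  let a₂ : T' ⟶ X₂ := Over.homMk s₂ (by
    rw [← Over.w q₂, ← Category.assoc, e₂, Category.assoc, Over.w (snd Y₁ Y₂)]; rfl)
  refine ⟨(X₁ ⊗ X₂).left, (lift a₁ a₂).left, (q₁ ⊗ₘ q₂).left, Presieve.singleton_self _, ?_⟩
  rw [← Over.comp_left, lift_map]
  refine congrArg CommaMorphism.left (?_ : lift (a₁ ≫ q₁) (a₂ ≫ q₂) = φ)
  ext1
  · rw [lift_fst]; ext1; exact e₁
  · rw [lift_snd]; ext1; exact e₂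

/-- descent of morphisms along a locally surjective morphism -/
theorem descend {q : X ⟶ Y} (hq : Cov q) (d : X ⟶ Z)
    (h : ∀ (T : Over S) (a b : T ⟶ X), a ≫ q = b ≫ q → a ≫ d = b ≫ d) :
    ∃ f : Y ⟶ Z, q ≫ f = d := by
  have hsh : ∀ W : Scheme.{u}, Presieve.IsSheafFor (yoneda.obj W) (Presieve.singleton q.left) := fun W => by
    exact (GrothendieckTopology.Subcanonical.isSheaf_of_isRepresentable (J := Scheme.fppfTopology)
      (yoneda.obj W)).isSheafFor _ hq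
  obtain ⟨f, hf, -⟩ := (Presieve.isSheafFor_singleton.1 (hsh Z.left)) d.left (fun {T} p₁ p₂ hp => by
    let T' : Over S := Over.mk (p₁ ≫ X.hom)
    let a : T' ⟶ X := Over.homMk p₁
    let b : T' ⟶ X := Over.homMk p₂ (by
      change p₂ ≫ X.hom = p₁ ≫ X.hom
      rw [← Over.w q, ← Category.assoc, ← Category.assoc, hp])
    exact congrArg CommaMorphism.left (h T' a b (by ext1; exact hp)))
  obtain ⟨g, -, hg⟩ := (Presieve.isSheafFor_singleton.1 (hsh S)) X.hom (fun {T} p₁ p₂ hp => by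
    change p₁ ≫ X.hom = p₂ ≫ X.hom
    rw [← Over.w q, ← Category.assoc, ← Category.assoc, hp])
  have hf' : q.left ≫ f = d.left := hf
  refine ⟨Over.homMk f ((hg _ ?_).trans (hg _ ?_).symm), by ext1; exact hf'⟩
  · change q.left ≫ f ≫ Z.hom = X.hom
    rw [← Category.assoc, hf', Over.w]
  · exact Over.w q

theorem cancel {q : X ⟶ Y} (hq : Cov q) {f g : Y ⟶ Z} (h : q ≫ f = q ≫ g) : f = g := by
  have hsh : Presieve.IsSheafFor (yoneda.obj Z.left) (Presieve.singleton q.left) := by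
    exact (GrothendieckTopology.Subcanonical.isSheaf_of_isRepresentable (J := Scheme.fppfTopology)
      (yoneda.obj Z.left)).isSheafFor _ hq
  ext1
  exact hsh.isSeparatedFor.ext fun _ _ hp => by
    cases hp
    exact congrArg CommaMorphism.left h

section exact

variable {G E P : Over S} [GrpObj G] [GrpObj E] [GrpObj P] {u : G ⟶ E} {v : E ⟶ P}
  (hex : NonAbH1.IsExactSeq Scheme.fppfPrecoverage u v)

include hex in
lemma cov_v : Cov v := cov_of_isLocallyTrivialFor v hex.2.2.2.2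

include hex in
lemma exists_of_comp_eq {T : Over S} {a b : T ⟶ E} (h : a ≫ v = b ≫ v) : ∃ g : T ⟶ G, a * (g ≫ u) = b := by
  obtain ⟨w, hw₁, hw₂⟩ := hex.2.2.2.1.exists_lift a b h
  refine ⟨w ≫ snd E G, ?_⟩
  rw [← hw₂, ← hw₁]
  have h1 : (E ◁ u) ≫ μ[E] = fst E G * (snd E G ≫ u) := by
    rw [Hom.mul_def]
    congr 1
  rw [h1, comp_mul, Category.assoc]

include hex in
lemma comp_u_injective {T : Over S} {g g' : T ⟶ G} (h : g ≫ u = g' ≫ u) : g = g' := by
  have key : lift (1 : T ⟶ E) g = lift (1 : T ⟶ E) g' := by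
    apply hex.2.2.2.1.hom_ext
    · simp
    · rw [← Category.assoc, ← Category.assoc, lift_whiskerLeft, lift_whiskerLeft, h]
  simpa using congrArg (· ≫ snd E G) key

include hex in
lemma exists_of_comp_eq_one {T : Over S} {x : T ⟶ E} (h : x ≫ v = 1) : ∃ g : T ⟶ G, g ≫ u = x := by
  haveI := hex.2.1
  obtain ⟨g, hg⟩ := exists_of_comp_eq hex (a := (1 : T ⟶ E)) (b := x) (by rw [h, one_comp])
  exact ⟨g, by simpa using hg⟩

include hex in
lemma comp_v_comp_u {T : Over S} (g : T ⟶ G) : g ≫ u ≫ v = 1 := by rw [hex.2.2.1, comp_one]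

end exact

end Groth.L28.Ext
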