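import Groth.Agent.L28.Ext.Basic
import Groth.Prelude.Def_TwC
import Mathlib.AlgebraicGeometry.Morphisms.LocalFlatDescent
import Mathlib.AlgebraicGeometry.Morphisms.FlatDescent
import Mathlib.AlgebraicGeometry.Morphisms.FlatMono
import Mathlib.AlgebraicGeometry.Morphisms.Etale

/-!
# The projection of an extension by a constant group is étale and surjective
-/

universe u

open CategoryTheory CategoryTheory.Limits MonoidalCategory CartesianMonoidalCategory MonObj AlgebraicGeometry Opposite

set_option backward.isDefEq.respectTransparency.types false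

namespace Groth.L28.Ext

variable {S : Scheme.{u}} {G E P : Over S} [GrpObj G] [GrpObj E] [GrpObj P] {u : G ⟶ E} {v : E ⟶ P}

/-- An fppf cover over which a locally trivial `v` acquires a section. -/
theorem exists_fppf_section {X Y : Over S} (v : X ⟶ Y)
    (h : NonAbH1.IsLocallyTrivialFor Scheme.fppfPrecoverage (Over.mk v.left : Over Y.left)) :
    ∃ (P' : Scheme.{u}) (g : P' ⟶ Y.left) (s : P' ⟶ X.left), Surjective g ∧ Flat g ∧
      LocallyOfFinitePresentation g ∧ s ≫ v.left = g := by
  obtain ⟨R, hR, hsec⟩ := h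
  obtain ⟨hsurj', hprop⟩ := hR
  have hsurj := (Presieve.mem_comap_jointlySurjectivePrecoverage_iff Scheme.forget).1 hsurj'
  have hcov : ∀ p : ↥Y.left, ∃ (T : Scheme.{u}) (f : T ⟶ Y.left), R f ∧ p ∈ Set.range f := fun p => by
    obtain ⟨T, f, hf, hp⟩ := hsurj p
    exact ⟨T, f, hf, hp⟩
  choose T f hf hp using hcov
  choose s hs using fun p => hsec (f p) (hf p)
  refine ⟨∐ T, Sigma.desc f, Sigma.desc s, ⟨fun p => ?_⟩, ?_, ?_, ?_⟩
  · obtain ⟨t, ht⟩ := hp p
    exact ⟨Sigma.ι T p t, by rw [← Scheme.Hom.comp_apply, Sigma.ι_desc]; exact ht⟩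
  · exact IsZariskiLocalAtSource.sigmaDesc fun p => (hprop (hf p)).1
  · exact IsZariskiLocalAtSource.sigmaDesc fun p => (hprop (hf p)).2
  · refine Sigma.hom_ext _ _ fun p => ?_
    rw [Sigma.ι_desc_assoc, Sigma.ι_desc]
    exact hs p

theorem etale_const_hom (Z : Type u) : Etale (TwC.const S Z).hom :=
  IsZariskiLocalAtSource.sigmaDesc fun _ => inferInstanceAs (Etale (𝟙 S))

/-- The projection of an extension by an étale group is étale and surjective. -/
theorem etale_surjective_of_exact (hex : NonAbH1.IsExactSeq Scheme.fppfPrecoverage u v)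
    (hG : Etale G.hom) : Etale v.left ∧ Surjective v.left := by
  obtain ⟨P', g, s, hg1, hg2, hg3, hs⟩ := exists_fppf_section v hex.2.2.2.2
  let T : Over S := Over.mk (g ≫ P.hom)
  let a : T ⟶ E := Over.homMk s (by
    change s ≫ E.hom = g ≫ P.hom
    rw [← hs, Category.assoc, Over.w v])
  let q : T ⟶ P := Over.homMk g
  have haq : a ≫ v = q := Over.OverMorphism.ext hs
  have h1 : IsPullback (a ▷ G) (fst T G) (fst E G) a := by
    refine IsPullback.mk' (whiskerRight_fst a G) (fun W φ ψ e1 e2 => ?_) (fun W x y e => ?_)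
    · refine CartesianMonoidalCategory.hom_ext _ _ e2 ?_
      have := congrArg (· ≫ snd E G) e1
      simpa using this
    · refine ⟨lift y (x ≫ snd E G), ?_, lift_fst _ _⟩
      refine CartesianMonoidalCategory.hom_ext _ _ ?_ ?_
      · simpa using e.symm
      · simp
  have h2 : IsPullback ((a ▷ G) ≫ (E ◁ u) ≫ μ[E]) (fst T G) v q := by
    have := h1.paste_horiz hex.2.2.2.1.flip
    rwa [haq] at this
  have h3 := h2.map (Over.forget S)
  have h4 : Etale (fst T G).left := by
    change Etale (pullback.fst T.hom G.hom)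
    have := hG
    infer_instance
  refine ⟨MorphismProperty.of_isPullback_of_descendsAlong (P := @Etale)
    (Q := @Surjective ⊓ @Flat ⊓ @LocallyOfFinitePresentation) h3.flip ⟨⟨hg1, hg2⟩, hg3⟩ h4, ⟨fun p => ?_⟩⟩
  obtain ⟨t, ht⟩ := hg1.surj p
  exact ⟨s t, by rw [← Scheme.Hom.comp_apply, hs]; exact ht⟩

end Groth.L28.Ext
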