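import Groth.Agent.L28.Ext.Basic

/-!
# Centrality in extensions
-/

universe u

open CategoryTheory CategoryTheory.Limits MonoidalCategory CartesianMonoidalCategory MonObj AlgebraicGeometry

namespace Groth.L28.Ext

variable {S : Scheme.{u}} {G E P : Over S} [GrpObj G] [GrpObj E] [GrpObj P] [IsCommMonObj G]
  {u : G ⟶ E} {v : E ⟶ P} (hex : NonAbH1.IsExactSeq Scheme.fppfPrecoverage u v)

include hex in
theorem u_central (hPG : ∀ f : P ⊗ G ⟶ G, lift (𝟙 P) (toUnit P ≫ η[G]) ≫ f = 1 →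
    lift (toUnit G ≫ η[P]) (𝟙 G) ≫ f = 1 → f = 1) (T : Over S) (g : T ⟶ G) (x : T ⟶ E) :
    (g ≫ u) * x = x * (g ≫ u) := by
  haveI := hex.1
  haveI := hex.2.1
  set c : E ⊗ G ⟶ E := fst E G * (snd E G ≫ u) * (fst E G)⁻¹ * (snd E G ≫ u)⁻¹ with hc
  have hcT : ∀ {T : Over S} (p : T ⟶ E ⊗ G),
      p ≫ c = (p ≫ fst E G) * (p ≫ snd E G ≫ u) * (p ≫ fst E G)⁻¹ * (p ≫ snd E G ≫ u)⁻¹ := fun p => by
    simp only [hc, comp_mul, GrpObj.comp_inv]
  obtain ⟨d, hd⟩ : ∃ d : E ⊗ G ⟶ G, d ≫ u = c := exists_of_comp_eq_one hex (by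
    simp only [hc, mul_comp, GrpObj.inv_comp, Category.assoc, hex.2.2.1, comp_one, _root_.mul_one, inv_one,
      mul_inv_cancel])
  have hcov := cov_tensor (cov_v hex) (cov_id G)
  obtain ⟨f, hf⟩ := descend hcov d fun T a b hab => by
    have h1 : (a ≫ fst E G) ≫ v = (b ≫ fst E G) ≫ v := by
      simpa using congrArg (· ≫ fst P G) hab
    have h2 : b ≫ snd E G = a ≫ snd E G := by
      simpa using (congrArg (· ≫ snd P G) hab).symm
    obtain ⟨g', hg'⟩ := exists_of_comp_eq hex h1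
    apply comp_u_injective hex
    rw [Category.assoc, Category.assoc, hd, hcT, hcT, ← hg', ← Category.assoc b (snd E G), h2,
      Category.assoc]
    set y := a ≫ fst E G
    have hcomm : (g' ≫ u) * (a ≫ snd E G ≫ u) = (a ≫ snd E G ≫ u) * (g' ≫ u) := by
      rw [← Category.assoc, ← mul_comp, ← mul_comp, _root_.mul_comm]
    rw [_root_.mul_inv_rev, ← _root_.mul_assoc, _root_.mul_assoc y (g' ≫ u), hcomm,
      ← _root_.mul_assoc, mul_inv_cancel_right]
  have hu1 : ∀ {T : Over S} (g : T ⟶ G), g ≫ u = 1 → g = 1 := fun g hg =>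
    comp_u_injective hex (by rw [hg, one_comp])
  have hf1 : f = 1 := by
    refine hPG f ?_ ?_
    · apply cancel (cov_v hex)
      rw [comp_one, ← Category.assoc]
      rw [show v ≫ lift (𝟙 P) (toUnit P ≫ η[G]) = lift (𝟙 E) (1 : E ⟶ G) ≫ (v ⊗ₘ 𝟙 G) by
        ext <;> simp [Hom.one_def], Category.assoc, hf]
      apply hu1
      rw [Category.assoc, hd, hcT, lift_fst, ← Category.assoc (lift _ _) (snd E G), lift_snd, one_comp]
      simp
    · rw [show lift (toUnit G ≫ η[P]) (𝟙 G) = lift (1 : G ⟶ E) (𝟙 G) ≫ (v ⊗ₘ 𝟙 G) by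
        ext <;> simp [Hom.one_def], Category.assoc, hf]
      apply hu1
      rw [Category.assoc, hd, hcT, lift_fst, ← Category.assoc (lift _ _) (snd E G), lift_snd]
      simp
  have hd1 : d = 1 := by rw [← hf, hf1, comp_one]
  have h := hcT (lift x g)
  rw [← hd, hd1, one_comp, comp_one, lift_fst, ← Category.assoc (lift x g) (snd E G), lift_snd] at h
  rw [eq_comm, mul_inv_eq_one, mul_inv_eq_iff_eq_mul] at h
  exact h.symm

include hex in
theorem isCommMonObj_of (hc : ∀ (T : Over S) (g : T ⟶ G) (x : T ⟶ E), (g ≫ u) * x = x * (g ≫ u))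
    [IsCommMonObj P]
    (hPP : ∀ f : P ⊗ P ⟶ G, lift (𝟙 P) (toUnit P ≫ η[P]) ≫ f = 1 →
      lift (toUnit P ≫ η[P]) (𝟙 P) ≫ f = 1 → f = 1) : IsCommMonObj E := by
  haveI := hex.1
  haveI := hex.2.1
  set c : E ⊗ E ⟶ E := fst E E * snd E E * (fst E E)⁻¹ * (snd E E)⁻¹ with hc'
  have hcT : ∀ {T : Over S} (p : T ⟶ E ⊗ E),
      p ≫ c = (p ≫ fst E E) * (p ≫ snd E E) * (p ≫ fst E E)⁻¹ * (p ≫ snd E E)⁻¹ := fun p => by
    simp only [hc', comp_mul, GrpObj.comp_inv]
  obtain ⟨d, hd⟩ : ∃ d : E ⊗ E ⟶ G, d ≫ u = c := exists_of_comp_eq_one hex (by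
    simp only [hc', mul_comp, GrpObj.inv_comp]
    rw [_root_.mul_comm (fst E E ≫ v), mul_inv_cancel_right, mul_inv_cancel])
  obtain ⟨f, hf⟩ := descend (cov_tensor (cov_v hex) (cov_v hex)) d fun T a b hab => by
    have h1 : (a ≫ fst E E) ≫ v = (b ≫ fst E E) ≫ v := by
      simpa using congrArg (· ≫ fst P P) hab
    have h2 : (a ≫ snd E E) ≫ v = (b ≫ snd E E) ≫ v := by
      simpa using congrArg (· ≫ snd P P) hab
    obtain ⟨g, hg⟩ := exists_of_comp_eq hex h1
    obtain ⟨g', hg'⟩ := exists_of_comp_eq hex h2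
    apply comp_u_injective hex
    rw [Category.assoc, Category.assoc, hd, hcT, hcT, ← hg, ← hg']
    set x := a ≫ fst E E
    set y := a ≫ snd E E
    set s := g ≫ u
    set t := g' ≫ u
    have hs : ∀ z : T ⟶ E, Commute s z := fun z => hc T g z
    have ht : ∀ z : T ⟶ E, Commute t z := fun z => hc T g' z
    simp only [_root_.mul_inv_rev, _root_.mul_assoc]
    rw [(hs y).left_comm, (ht s⁻¹).left_comm, mul_inv_cancel_left, (ht x⁻¹).left_comm, mul_inv_cancel_left]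
  have hu1 : ∀ {T : Over S} (g : T ⟶ G), g ≫ u = 1 → g = 1 := fun g hg =>
    comp_u_injective hex (by rw [hg, one_comp])
  have hf1 : f = 1 := by
    refine hPP f ?_ ?_
    · apply cancel (cov_v hex)
      rw [comp_one, ← Category.assoc]
      rw [show v ≫ lift (𝟙 P) (toUnit P ≫ η[P]) = lift (𝟙 E) (1 : E ⟶ E) ≫ (v ⊗ₘ v) by
        ext <;> simp [Hom.one_def], Category.assoc, hf]
      apply hu1
      rw [Category.assoc, hd, hcT, lift_fst, lift_snd]
      simp
    · apply cancel (cov_v hex)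
      rw [comp_one, ← Category.assoc]
      rw [show v ≫ lift (toUnit P ≫ η[P]) (𝟙 P) = lift (1 : E ⟶ E) (𝟙 E) ≫ (v ⊗ₘ v) by
        ext <;> simp [Hom.one_def], Category.assoc, hf]
      apply hu1
      rw [Category.assoc, hd, hcT, lift_fst, lift_snd]
      simp
  have h : (fst E E * snd E E * (fst E E)⁻¹ * (snd E E)⁻¹ : E ⊗ E ⟶ E) = 1 := by
    rw [← hc', ← hd, ← hf, hf1, comp_one, one_comp]
  rw [mul_inv_eq_one, mul_inv_eq_iff_eq_mul] at h
  refine ⟨?_⟩
  rw [show μ[E] = fst E E * snd E E by rw [Hom.mul_def, lift_fst_snd, Category.id_comp]]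
  rw [comp_mul, braiding_hom_fst, braiding_hom_snd]
  exact h.symm

end Groth.L28.Ext
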