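import Groth.Agent.L28.Ext.Basic
import Groth.Prelude.Def_TwC
import Mathlib.AlgebraicGeometry.Morphisms.QuasiCompact
import Mathlib.GroupTheory.OrderOfElement

/-!
# Rigidity of extensions of a quasi-compact group by a torsion-free constant group
-/

universe u

open CategoryTheory CategoryTheory.Limits MonoidalCategory CartesianMonoidalCategory MonObj AlgebraicGeometry

namespace Groth.L28.Ext

theorem hom_to_const_eq_one {S : Scheme.{u}} {Z : Type u} [Group Z] (hZ : ∀ z : Z, IsOfFinOrder z → z = 1)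
    {P G : Over S} [GrpObj P] [GrpObj G] [CompactSpace ↥P.left] (eG : G ≅ TwC.const S Z)
    (hG : TwC.IsConstGrp Z G eG) (f : P ⟶ G) [IsMonHom f] : f = 1 := by
  let inc : Z → (S ⟶ (TwC.const S Z).left) := fun z => Sigma.ι (fun _ : Z => S) z
  have hinc : ∀ z, IsOpenImmersion (inc z) := fun z => inferInstanceAs (IsOpenImmersion (Sigma.ι (fun _ : Z => S) z))
  let c : ∀ (T : Over S), Z → (T ⟶ G) := fun T z => toUnit T ≫ TwC.pt S Z z ≫ eG.inv
  have hc : ∀ T z w, c T z * c T w = c T (z * w) := fun T z w => by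
    simp only [c, ← comp_mul, hG z w]
  have hc1 : ∀ T, c T 1 = 1 := fun T => by
    have := hc T 1 1
    rwa [_root_.one_mul, mul_eq_right] at this
  let g : P ⟶ TwC.const S Z := f ≫ eG.hom
  have hcov : ∀ y : ↥(TwC.const S Z).left, ∃ z, y ∈ Set.range (inc z) := fun y =>
    ⟨_, (sigmaOpenCover (fun _ : Z => S)).covers y⟩
  have huniq : ∀ {z w : Z} {y : ↥(TwC.const S Z).left}, y ∈ Set.range (inc z) → y ∈ Set.range (inc w) → z = w := by
    rintro z w y ⟨a, ha⟩ ⟨b, hb⟩
    exact congrArg Sigma.fst ((sigmaι_eq_iff (fun _ : Z => S) z w a b).mp (ha.trans hb.symm))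
  choose idx hidx using fun p : ↥P.left => hcov (g.left p)
  -- a point with values in a nonempty scheme landing in one copy
  have hfac : ∀ (T : Over S) (x : T ⟶ P) (z : Z), (∀ t, g.left (x.left t) ∈ Set.range (inc z)) → x ≫ f = c T z := by
    intro T x z hz
    rw [← cancel_mono eG.hom]
    simp only [c, Category.assoc, Iso.inv_hom_id, Category.comp_id]
    ext1
    haveI := hinc z
    let l := IsOpenImmersion.lift (inc z) (x ≫ g).left (by rintro _ ⟨t, rfl⟩; exact hz t)
    have hl : l ≫ inc z = (x ≫ g).left := IsOpenImmersion.lift_fac _ _ _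
    have hl' : l = T.hom := by
      have := Over.w (x ≫ g)
      rw [← hl] at this
      simpa [inc] using this
    rw [← show (x ≫ g).left = (x ≫ f ≫ eG.hom).left from rfl, ← hl, hl']
    simp [inc, TwC.pt]
  -- finitely many copies are met
  have hfin : (Set.range idx).Finite := by
    haveI := hinc
    obtain ⟨s, hs⟩ := isCompact_univ.elim_finite_subcover (fun z => g.left ⁻¹' Set.range (inc z))
      (fun z => ((hinc z).base_open.isOpen_range).preimage g.left.continuous)
      (fun p _ => Set.mem_iUnion.2 ⟨idx p, hidx p⟩)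
    refine s.finite_toSet.subset ?_
    rintro _ ⟨p, rfl⟩
    obtain ⟨z, hzs, hz⟩ := Set.mem_iUnion₂.1 (hs (Set.mem_univ p))
    exact huniq (hidx p) hz ▸ hzs
  have hone : ∀ p, idx p = 1 := fun p => hZ _ (by
    let T : Over S := Over.mk (P.left.fromSpecResidueField p ≫ P.hom)
    let x : T ⟶ P := Over.homMk (P.left.fromSpecResidueField p)
    haveI hsub : Subsingleton ↥T.left := inferInstanceAs (Subsingleton (PrimeSpectrum (P.left.residueField p)))
    haveI hne : Nonempty ↥T.left := inferInstanceAs (Nonempty (PrimeSpectrum (P.left.residueField p)))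
    have hx : x ≫ f = c T (idx p) := hfac T x _ fun t => by
      rw [show x.left t = p from Scheme.fromSpecResidueField_apply p t]; exact hidx p
    have hpow : ∀ n : ℕ, (x ^ n) ≫ f = c T (idx p ^ n) := fun n => by
      induction n with
      | zero => rw [pow_zero, pow_zero, hc1, one_comp]
      | succ n ih => rw [pow_succ, pow_succ, mul_comp, ih, hx, hc]
    by_contra hnot
    have hinj : Function.Injective (fun n : ℕ => idx p ^ n) := injective_pow_iff_not_isOfFinOrder.2 hnot
    refine Set.infinite_univ.mono ?_ (hfin.preimage hinj.injOn)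
    intro n _
    obtain ⟨t⟩ := hne
    refine ⟨(x ^ n).left t, huniq (hidx _) ?_⟩
    have h2 := congrArg (fun q : T ⟶ G => (q ≫ eG.hom).left t) (hpow n)
    simp only [c, Category.assoc, Iso.inv_hom_id, Category.comp_id] at h2
    exact ⟨(toUnit T).left t, (h2).symm.trans rfl⟩)
  have h := hfac P (𝟙 P) 1 fun p => by
    have := hidx p
    rw [hone p] at this
    exact this
  rwa [Category.id_comp, hc1] at h

theorem aut_eq_id {S : Scheme.{u}} {Z : Type u} [CommGroup Z] (hZ : ∀ z : Z, IsOfFinOrder z → z = 1)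
    {P E G : Over S} [GrpObj P] [GrpObj E] [GrpObj G] [IsCommMonObj E] [CompactSpace ↥P.left]
    (eG : G ≅ TwC.const S Z) (hG : TwC.IsConstGrp Z G eG) {u : G ⟶ E} {v : E ⟶ P}
    (hex : NonAbH1.IsExactSeq Scheme.fppfPrecoverage u v) (φ : E ⟶ E) [IsMonHom φ]
    (hφu : u ≫ φ = u) (hφv : φ ≫ v = v) : φ = 𝟙 E := by
  haveI := hex.1
  haveI := hex.2.1
  set ψ : E ⟶ E := φ * (𝟙 E)⁻¹ with hψ
  have hψT : ∀ {T : Over S} (x : T ⟶ E), x ≫ ψ = (x ≫ φ) * x⁻¹ := fun x => by
    rw [hψ, comp_mul, GrpObj.comp_inv, Category.comp_id]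
  obtain ⟨d, hd⟩ : ∃ d : E ⟶ G, d ≫ u = ψ := exists_of_comp_eq_one hex (by
    rw [hψ, mul_comp, GrpObj.inv_comp, hφv, Category.id_comp, mul_inv_cancel])
  obtain ⟨f, hf⟩ := descend (cov_v hex) d fun T a b hab => by
    obtain ⟨g, hg⟩ := exists_of_comp_eq hex hab
    apply comp_u_injective hex
    rw [Category.assoc, Category.assoc, hd, hψT, hψT, ← hg, mul_comp, Category.assoc, hφu, _root_.mul_inv_rev,
      ← _root_.mul_assoc, mul_inv_cancel_right]
  haveI : IsMonHom f := by
    have hmul : μ[P] ≫ f = (f ⊗ₘ f) ≫ μ[G] := by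
      apply cancel (cov_tensor (cov_v hex) (cov_v hex))
      rw [← Category.assoc, ← IsMonHom.mul_hom, Category.assoc, hf, tensorHom_comp_tensorHom_assoc, hf]
      apply comp_u_injective hex
      rw [Category.assoc, hd, show (d ⊗ₘ d) ≫ μ[G] = (fst E E ≫ d) * (snd E E ≫ d) by
        rw [Hom.mul_def]; congr 1,
        show μ[E] = fst E E * snd E E by rw [Hom.mul_def, lift_fst_snd, Category.id_comp],
        hψT, mul_comp _ _ u, Category.assoc, Category.assoc, hd, hψT, hψT, mul_comp _ _ φ, _root_.mul_inv_rev]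
      ac_rfl
    refine ⟨?_, hmul⟩
    have hη : (η[P] ≫ f) * (η[P] ≫ f) = η[P] ≫ f := by
      have := congrArg (lift (η[P]) (η[P]) ≫ ·) hmul
      simp only [← Category.assoc, lift_map] at this
      rw [← Hom.mul_def, ← Hom.mul_def] at this
      rw [← this]
      congr 1
      simp [Hom.one_def]
    rw [mul_eq_right, Hom.one_def] at hη
    simpa using hη
  have hf1 : f = 1 := hom_to_const_eq_one hZ eG hG f
  have : ψ = 1 := by rw [← hd, ← hf, hf1, comp_one, one_comp]
  rw [hψ, mul_inv_eq_one] at this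
  exact this

end Groth.L28.Ext
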